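import Cfsg.Agent.H572.RIM.O73Row
import Cfsg.Agent.H74.RIM.O7Five

/-!
# S4816 (RIM): the row `o73` (helper572, helper74, helper79)
-/

set_option autoImplicit false

namespace Cfsg.Agent.H572.RIM

open Cfsg Cfsg.Agent.OrdDiv Cfsg.Agent.H325.RIM

universe u

/-- **The row `o73` of `RowsKill`.** -/
theorem row_o73 : ∀ p : ℕ, p = 5 ∨ p = 7 ∨ p = 13 → KillRow.{u} p (.oodd 3 3) := by
  rintro p (rfl | rfl | rfl)
  · exact Cfsg.Agent.H74.RIM.O7Row.row_five
  · exact killRow_o73_7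
  · exact killRow_o73_13

end Cfsg.Agent.H572.RIM
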